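import Mathlib
import Groth.Agent.GenFree.Package

/-!
# Minimal primes and nowhere dense closed subsets of fibres, generically on the base
-/

universe u

open TensorProduct Groth.GenFree

namespace Groth.Agent.FibreND

theorem exists_prime_le {B : Type u} [CommRing B] {I P : Ideal B} [P.IsPrime] (b : B)
    (h : ∀ s ∉ P, ∀ n : ℕ, s * b ^ n ∉ I) : ∃ Q : Ideal B, Q.IsPrime ∧ I ≤ Q ∧ Q ≤ P ∧ b ∉ Q := by
  obtain ⟨Q, hQ, hIQ, hd⟩ := Ideal.exists_le_prime_disjoint (I := I) (P.primeCompl ⊔ Submonoid.powers b)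
    (Set.disjoint_right.mpr fun x hx hxI => by
      obtain ⟨s, hs, _, ⟨n, rfl⟩, rfl⟩ := Submonoid.mem_sup.mp hx
      exact h s hs n hxI)
  refine ⟨Q, hQ, hIQ, fun x hx => ?_, fun hb => ?_⟩
  · by_contra hxP
    exact Set.disjoint_left.mp hd hx (Submonoid.mem_sup_left (show x ∈ P.primeCompl from hxP))
  · exact Set.disjoint_left.mp hd hb (Submonoid.mem_sup_right (Submonoid.mem_powers b))

/-- The closed set `V(J)` is nowhere dense in the fibre over `p`. -/
def ND {R B : Type u} [CommRing R] [CommRing B] [Algebra R B] (p : Ideal R) (J : Ideal B) : Prop :=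
  ∀ P : Ideal B, P.IsPrime → P.comap (algebraMap R B) = p → ∀ c ∉ P,
    ∃ Q : Ideal B, Q.IsPrime ∧ Q.comap (algebraMap R B) = p ∧ c ∉ Q ∧ ¬ J ≤ Q

section Domain

variable {D : Type u} [CommRing D] [IsDomain D] {B : Type u} [CommRing B] [Algebra D B]

theorem torsion_of_freeAt {a d : D} {M : Type u} [AddCommGroup M] [Module D M] (h : FreeAt a M) {m : M}
    (hd : d ≠ 0) (hm : d • m = 0) : ∃ n : ℕ, a ^ n • m = 0 := by
  obtain ⟨ι, e, hli, hsp⟩ := h
  obtain ⟨n, hn⟩ := hsp m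
  obtain ⟨l, hl⟩ := Finsupp.mem_span_range_iff_exists_finsupp.mp hn
  rw [← Finsupp.linearCombination_apply] at hl
  have h0 : Finsupp.linearCombination D e (d • l) = 0 := by
    rw [map_smul, hl, smul_comm, hm, smul_zero]
  have hl0 := linearIndependent_iff.mp hli _ h0
  rw [smul_eq_zero] at hl0
  refine ⟨n, ?_⟩
  rw [← hl, hl0.resolve_left hd, map_zero]

theorem comap_eq_bot {a : D} (h : FreeAt a B) {Q : Ideal B} (hQ : Q ∈ minimalPrimes B)
    (ha : algebraMap D B a ∉ Q) : Q.comap (algebraMap D B) = ⊥ := by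
  have := hQ.isPrime
  rw [eq_bot_iff]
  intro c hc
  rw [Ideal.mem_bot]
  by_contra hc0
  by_cases hs : ∀ s ∉ Q, ∀ n : ℕ, s * algebraMap D B c ^ n ∉ (⊥ : Ideal B)
  · obtain ⟨Q', hQ', -, hle, hcQ'⟩ := exists_prime_le _ hs
    exact hcQ' ((hQ.2 ⟨hQ', bot_le⟩ hle) hc)
  push Not at hs
  obtain ⟨s, hs, n, hn⟩ := hs
  rw [Ideal.mem_bot] at hn
  obtain ⟨m, hm⟩ := torsion_of_freeAt h (pow_ne_zero n hc0) (m := s)
    (by rw [Algebra.smul_def, map_pow, mul_comm, hn])
  rw [Algebra.smul_def, map_pow] at hm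
  rcases Ideal.IsPrime.mem_or_mem ‹Q.IsPrime› (hm ▸ Q.zero_mem) with h' | h'
  · exact ha (Ideal.IsPrime.mem_of_pow_mem ‹Q.IsPrime› m h')
  · exact hs h'

variable [Algebra.FiniteType D B]

/-- Over a dense open, every point generizes to the generic fibre. -/
theorem exists_over_bot (D B : Type u) [CommRing D] [IsDomain D] [CommRing B] [Algebra D B] [Algebra.FiniteType D B] :
    ∃ a : D, a ≠ 0 ∧ ∀ P : Ideal B, P.IsPrime → algebraMap D B a ∉ P →
      ∃ Q : Ideal B, Q.IsPrime ∧ Q ≤ P ∧ Q.comap (algebraMap D B) = ⊥ := by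
  obtain ⟨a, ha, h, -⟩ := exists_algebra_freeAt D B
  refine ⟨a, ha, fun P hP haP => ?_⟩
  obtain ⟨Q, hQ, hle⟩ := Ideal.exists_minimalPrimes_le (bot_le : (⊥ : Ideal B) ≤ P)
  exact ⟨Q, hQ.isPrime, hle, comap_eq_bot h hQ fun hc => haP (hle hc)⟩

theorem finite_minimalPrimes_over_bot :
    {Q : Ideal B | Q ∈ minimalPrimes B ∧ Q.comap (algebraMap D B) = ⊥}.Finite := by
  let K := FractionRing D
  let T := K ⊗[D] B
  letI : Algebra B T := Algebra.TensorProduct.rightAlgebra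
  let S := Algebra.algebraMapSubmonoid B (nonZeroDivisors D)
  haveI : IsLocalization S T := inferInstance
  haveI : IsNoetherianRing T := Algebra.FiniteType.isNoetherianRing K T
  refine ((minimalPrimes.finite_of_isNoetherianRing T).image (Ideal.comap (algebraMap B T))).subset ?_
  rintro Q ⟨hQ, hQ0⟩
  have := hQ.isPrime
  have hd : Disjoint (S : Set B) Q := by
    rw [Set.disjoint_left]
    rintro _ ⟨d, hd, rfl⟩ hdQ
    have : d ∈ Q.comap (algebraMap D B) := hdQ
    rw [hQ0, Ideal.mem_bot] at this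
    exact nonZeroDivisors.ne_zero hd this
  have e := IsLocalization.under_map_of_isPrime_disjoint S T hQ.isPrime hd
  refine ⟨Q.map (algebraMap B T), ?_, e⟩
  have h2 := IsLocalization.minimalPrimes_map S T (⊥ : Ideal B)
  rw [Ideal.map_bot] at h2
  show Q.map (algebraMap B T) ∈ (⊥ : Ideal T).minimalPrimes
  rw [h2, Set.mem_preimage, e]
  exact hQ

/-- Division by `b` modulo `p`, up to powers of `a`. -/
theorem exists_pow_mul_mem {a a' : D} {b : B} (hb : ∀ x, b * x = 0 → algebraMap D B a' * x = 0)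
    (h : FreeAt a (B ⧸ Ideal.span {b})) (p : Ideal D) {x : B} (hx : b * x ∈ p.map (algebraMap D B)) :
    ∃ k : ℕ, algebraMap D B a' * algebraMap D B a ^ k * x ∈ p.map (algebraMap D B) := by
  obtain ⟨ι, e, hli, hsp⟩ := h
  choose e' he' using fun i => Ideal.Quotient.mk_surjective (e i)
  let π : B →ₗ[D] B ⧸ Ideal.span {b} := (Ideal.Quotient.mkₐ D _).toLinearMap
  have hπ : ∀ l : ι →₀ D, π (Finsupp.linearCombination D e' l) = Finsupp.linearCombination D e l := fun l => by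
    rw [Finsupp.apply_linearCombination]
    congr 1
    exact congrArg (fun v => Finsupp.linearCombination D v) (funext he')
  have key : ∀ y ∈ p • (⊤ : Submodule D B), ∃ (k : ℕ) (l : ι →₀ D) (w : B), w ∈ p • (⊤ : Submodule D B) ∧
      a ^ k • y = Finsupp.linearCombination D e' l + b * w := by
    intro y hy
    induction hy using Submodule.smul_induction_on' with
    | smul r hr m _ =>
      obtain ⟨n, hn⟩ := hsp (π m)
      obtain ⟨l, hl⟩ := Finsupp.mem_span_range_iff_exists_finsupp.mp hn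
      rw [← Finsupp.linearCombination_apply, ← map_smul, ← hπ] at hl
      obtain ⟨w, hw⟩ := Ideal.mem_span_singleton'.mp (Ideal.Quotient.eq.mp hl.symm)
      refine ⟨n, r • l, r • w, Submodule.smul_mem_smul hr Submodule.mem_top, ?_⟩
      rw [map_smul, mul_smul_comm, ← smul_add, smul_comm, mul_comm b w, hw, add_sub_cancel]
    | add y _ z _ hy hz =>
      obtain ⟨k, l, w, hw, e1⟩ := hy
      obtain ⟨k', l', w', hw', e2⟩ := hz
      refine ⟨k + k', a ^ k' • l + a ^ k • l', a ^ k' • w + a ^ k • w',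
        add_mem (Submodule.smul_mem _ _ hw) (Submodule.smul_mem _ _ hw'), ?_⟩
      rw [map_add, map_smul, map_smul, mul_add, mul_smul_comm, mul_smul_comm, smul_add, pow_add, mul_smul, mul_smul,
        smul_comm (a ^ k), e1, e2, smul_add, smul_add]
      abel
  obtain ⟨k, l, w, hw, e1⟩ := key (b * x) (by rw [Ideal.smul_top_eq_map]; exact hx)
  have h0 : Finsupp.linearCombination D e l = 0 := by
    rw [← hπ, show Finsupp.linearCombination D e' l = b * (a ^ k • x - w) by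
      rw [mul_sub, mul_smul_comm, e1, add_sub_cancel_right]]
    exact Ideal.Quotient.eq_zero_iff_mem.mpr (Ideal.mem_span_singleton'.mpr ⟨_, mul_comm _ _⟩)
  rw [linearIndependent_iff.mp hli l h0, map_zero, zero_add] at e1
  have h1 := hb (a ^ k • x - w) (by rw [mul_sub, mul_smul_comm, e1, sub_self])
  rw [mul_sub, sub_eq_zero, Algebra.smul_def, map_pow, ← mul_assoc] at h1
  refine ⟨k, h1 ▸ Ideal.mul_mem_left _ _ ?_⟩
  rw [Ideal.smul_top_eq_map] at hw
  exact hw

/-- A closed subset nowhere dense in the generic fibre is so in the fibres over a dense open. -/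
theorem exists_nd [IsReduced B] (J : Ideal B) (hJ : ND (⊥ : Ideal D) J) :
    ∃ a : D, a ≠ 0 ∧ ∀ p : Ideal D, p.IsPrime → a ∉ p → ND p J := by
  classical
  obtain ⟨a₁, ha₁, h₁, -⟩ := exists_algebra_freeAt D B
  let M := (finite_minimalPrimes_over_bot (D := D) (B := B)).toFinset
  have hM : ∀ Q ∈ M, ¬ J ≤ Q := by
    intro Q hQ hJQ
    obtain ⟨hQ1, hQ2⟩ := (Set.Finite.mem_toFinset _).mp hQ
    have := hQ1.isPrime
    obtain ⟨c, hc, hcQ⟩ : ∃ c, c ∈ (M.erase Q).inf id ∧ c ∉ Q := by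
      refine SetLike.not_le_iff_exists.mp fun hle => ?_
      obtain ⟨Q', hQ', hle'⟩ := (Ideal.IsPrime.inf_le' ‹Q.IsPrime›).mp hle
      obtain ⟨hne, hQ'⟩ := Finset.mem_erase.mp hQ'
      obtain ⟨h', -⟩ := (Set.Finite.mem_toFinset _).mp hQ'
      exact hne (le_antisymm hle' (hQ1.2 ⟨h'.isPrime, bot_le⟩ hle'))
    obtain ⟨Q', hQ', hQ'0, hcQ', hJQ'⟩ := hJ Q ‹_› hQ2 c hcQ
    obtain ⟨Q'', hQ'', hle⟩ := Ideal.exists_minimalPrimes_le (bot_le : (⊥ : Ideal B) ≤ Q')
    have hQ''M : Q'' ∈ M := (Set.Finite.mem_toFinset _).mpr ⟨hQ'', le_antisymm (hQ'0 ▸ Ideal.comap_mono hle) bot_le⟩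
    rcases eq_or_ne Q'' Q with rfl | hne
    · exact hJQ' (hJQ.trans hle)
    · exact hcQ' (hle ((Finset.inf_le (f := id) (Finset.mem_erase.mpr ⟨hne, hQ''M⟩) : _ ≤ Q'') hc))
  obtain ⟨b, hbJ, hbM⟩ : ∃ b ∈ J, ∀ Q ∈ M, b ∉ Q := by
    by_contra h
    push Not at h
    obtain ⟨Q, hQ, hle⟩ := (Ideal.subset_union_prime (f := fun Q : Ideal B => Q) (s := M) ⊥ ⊥ fun i hi _ _ =>
      ((Set.Finite.mem_toFinset _).mp hi).1.isPrime).mp fun x hx => by
        obtain ⟨Q, hQ, hxQ⟩ := h x hx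
        exact Set.mem_biUnion (Finset.mem_coe.mpr hQ) hxQ
    exact hM Q hQ hle
  have hb : ∀ x, b * x = 0 → algebraMap D B a₁ * x = 0 := by
    intro x hx
    have : algebraMap D B a₁ * x ∈ sInf ((⊥ : Ideal B).minimalPrimes) := by
      refine Submodule.mem_sInf.mpr fun Q hQ => ?_
      by_cases ha : algebraMap D B a₁ ∈ Q
      · exact Ideal.mul_mem_right _ Q ha
      have hbQ : b ∉ Q := hbM Q ((Set.Finite.mem_toFinset _).mpr ⟨hQ, comap_eq_bot h₁ hQ ha⟩)
      exact Ideal.mul_mem_left Q _ ((hQ.isPrime.mem_or_mem (hx ▸ Q.zero_mem : b * x ∈ Q)).resolve_left hbQ)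
    rw [Ideal.sInf_minimalPrimes] at this
    obtain ⟨n, hn⟩ := this
    exact IsNilpotent.eq_zero ⟨n, hn⟩
  obtain ⟨a₂, ha₂, h₂, -⟩ := exists_algebra_freeAt D (B ⧸ Ideal.span {b})
  refine ⟨a₁ * a₂, mul_ne_zero ha₁ ha₂, fun p hp hap P hP hPp c hc => ?_⟩
  by_cases hJP : J ≤ P
  swap
  · exact ⟨P, hP, hPp, hc, hJP⟩
  have ha₁P : algebraMap D B a₁ ∉ P := fun h => hap (p.mul_mem_right _ (hPp ▸ h : a₁ ∈ p))
  have ha₂P : algebraMap D B a₂ ∉ P := fun h => hap (p.mul_mem_left _ (hPp ▸ h : a₂ ∈ p))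
  have hpP : p.map (algebraMap D B) ≤ P := Ideal.map_le_iff_le_comap.mpr hPp.ge
  obtain ⟨Q, hQ, hpQ, hle, hbQ⟩ := exists_prime_le (I := p.map (algebraMap D B)) (P := P) b fun s hs n => by
    induction n generalizing s with
    | zero =>
      rw [pow_zero, mul_one]
      exact fun h => hs (hpP h)
    | succ n ih =>
      intro hn
      obtain ⟨k, hk⟩ := exists_pow_mul_mem hb h₂ p (x := s * b ^ n)
        (by rwa [mul_left_comm, ← pow_succ'])
      rw [← mul_assoc] at hk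
      refine ih _ (fun h => ?_) hk
      rcases hP.mem_or_mem h with h | h
      · rcases hP.mem_or_mem h with h | h
        · exact ha₁P h
        · exact ha₂P (hP.mem_of_pow_mem k h)
      · exact hs h
  exact ⟨Q, hQ, le_antisymm ((Ideal.comap_mono hle).trans hPp.le) (Ideal.map_le_iff_le_comap.mp hpQ),
    fun h => hc (hle h), fun h => hbQ (h hbJ)⟩

end Domain

section General

variable (R B : Type u) [CommRing R] [CommRing B] [Algebra R B] [Algebra.FiniteType R B]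

theorem exists_over_nilradical [(nilradical R).IsPrime] :
    ∃ a : R, a ∉ nilradical R ∧ ∀ P : Ideal B, P.IsPrime → algebraMap R B a ∉ P →
      ∃ Q : Ideal B, Q.IsPrime ∧ Q ≤ P ∧ Q.comap (algebraMap R B) = nilradical R := by
  let N := nilradical R
  let I := nilradical B
  haveI : IsDomain (R ⧸ N) := Ideal.Quotient.isDomain N
  letI : Algebra (R ⧸ N) (B ⧸ I) := (Ideal.quotientMap I (algebraMap R B) fun x hx => mem_nilradical.mpr ((mem_nilradical.mp hx).map _)).toAlgebra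
  haveI : IsScalarTower R (R ⧸ N) (B ⧸ I) := IsScalarTower.of_algebraMap_eq fun r => rfl
  haveI : Algebra.FiniteType (R ⧸ N) (B ⧸ I) := Algebra.FiniteType.of_restrictScalars_finiteType R _ _
  obtain ⟨a, ha, H⟩ := exists_over_bot (R ⧸ N) (B ⧸ I)
  obtain ⟨a, rfl⟩ := Ideal.Quotient.mk_surjective a
  refine ⟨a, fun h => ha (Ideal.Quotient.eq_zero_iff_mem.mpr h), fun P hP haP => ?_⟩
  have hIP : I ≤ P := nilradical_le_prime P
  have hc : (P.map (Ideal.Quotient.mk I)).comap (Ideal.Quotient.mk I) = P := by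
    rw [Ideal.comap_map_of_surjective _ Ideal.Quotient.mk_surjective, ← RingHom.ker_eq_comap_bot, Ideal.mk_ker,
      sup_eq_left.mpr hIP]
  haveI : (P.map (Ideal.Quotient.mk I)).IsPrime :=
    Ideal.map_isPrime_of_surjective Ideal.Quotient.mk_surjective (by rwa [Ideal.mk_ker])
  obtain ⟨Q, hQ, hle, hQ0⟩ := H (P.map (Ideal.Quotient.mk I)) inferInstance fun h => haP (hc ▸ h)
  refine ⟨Q.comap (Ideal.Quotient.mk I), inferInstance, (Ideal.comap_mono hle).trans_eq hc, ?_⟩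
  ext r
  rw [← Ideal.Quotient.eq_zero_iff_mem (I := nilradical R), ← Ideal.mem_bot, ← hQ0]
  rfl

theorem exists_nd_nilradical [(nilradical R).IsPrime] (J : Ideal B) (hJ : ND (nilradical R) J) :
    ∃ a : R, a ∉ nilradical R ∧ ∀ p : Ideal R, p.IsPrime → a ∉ p → ND p J := by
  let N := nilradical R
  let I := nilradical B
  let q := Ideal.Quotient.mk I
  haveI : IsDomain (R ⧸ N) := Ideal.Quotient.isDomain N
  letI : Algebra (R ⧸ N) (B ⧸ I) := (Ideal.quotientMap I (algebraMap R B) fun x hx => mem_nilradical.mpr ((mem_nilradical.mp hx).map _)).toAlgebra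
  haveI : IsScalarTower R (R ⧸ N) (B ⧸ I) := IsScalarTower.of_algebraMap_eq fun r => rfl
  haveI : Algebra.FiniteType (R ⧸ N) (B ⧸ I) := Algebra.FiniteType.of_restrictScalars_finiteType R _ _
  haveI : IsReduced (B ⧸ I) := (Ideal.isRadical_iff_quotient_reduced I).mp (Ideal.radical_isRadical _)
  have hcm : ∀ (P : Ideal B), P.IsPrime → (P.map q).IsPrime ∧ (P.map q).comap q = P := fun P hP =>
    ⟨Ideal.map_isPrime_of_surjective Ideal.Quotient.mk_surjective (by rw [Ideal.mk_ker]; exact nilradical_le_prime P),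
      by rw [Ideal.comap_map_of_surjective _ Ideal.Quotient.mk_surjective, ← RingHom.ker_eq_comap_bot, Ideal.mk_ker,
        sup_eq_left.mpr (nilradical_le_prime P)]⟩
  have hcomm : ∀ (P : Ideal (B ⧸ I)), (P.comap (algebraMap (R ⧸ N) (B ⧸ I))).comap (Ideal.Quotient.mk N)
      = (P.comap q).comap (algebraMap R B) := fun P => rfl
  have hle : ∀ Q : Ideal (B ⧸ I), J.map q ≤ Q ↔ J ≤ Q.comap q := fun Q => Ideal.map_le_iff_le_comap
  have hJ' : ND (⊥ : Ideal (R ⧸ N)) (J.map q) := by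
    intro P hP hP0 c hc
    obtain ⟨c, rfl⟩ := Ideal.Quotient.mk_surjective c
    obtain ⟨Q, hQ, hQ0, hcQ, hJQ⟩ := hJ (P.comap q) inferInstance
      (by rw [← hcomm, hP0, ← RingHom.ker_eq_comap_bot, Ideal.mk_ker]) c hc
    obtain ⟨hQ', hQq⟩ := hcm Q hQ
    refine ⟨Q.map q, hQ', ?_, fun h => hcQ (hQq ▸ h), fun h => hJQ (hQq ▸ (hle _).mp h)⟩
    refine Ideal.comap_injective_of_surjective _ Ideal.Quotient.mk_surjective ?_
    rw [hcomm, hQq, hQ0, ← RingHom.ker_eq_comap_bot, Ideal.mk_ker]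
  obtain ⟨a, ha, H⟩ := exists_nd (J.map q) hJ'
  obtain ⟨a, rfl⟩ := Ideal.Quotient.mk_surjective a
  refine ⟨a, fun h => ha (Ideal.Quotient.eq_zero_iff_mem.mpr h), fun p hp hap P hP hPp c hc => ?_⟩
  obtain ⟨hP', hPq⟩ := hcm P hP
  let p' := (P.map q).comap (algebraMap (R ⧸ N) (B ⧸ I))
  have hp' : p'.comap (Ideal.Quotient.mk N) = p := by rw [hcomm, hPq, hPp]
  obtain ⟨Q, hQ, hQp, hcQ, hJQ⟩ := H p' inferInstance (fun h => hap (hp' ▸ h)) (P.map q) hP' rfl (q c)
    fun h => hc (hPq ▸ h)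
  exact ⟨Q.comap q, inferInstance, by rw [← hcomm, hQp, hp'], hcQ, fun h => hJQ ((hle _).mpr h)⟩

end General

end Groth.Agent.FibreND
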