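import Mathlib
import Groth.Agent.FibreND.Basic

/-!
# Fibres over a dense open of an irreducible base
-/

universe u

open AlgebraicGeometry CategoryTheory Limits

namespace Groth.Agent.FibreND

variable {X Y : Scheme.{u}} (f : X ⟶ Y)

theorem fromSpec_comap {V : Y.Opens} (hV : IsAffineOpen V) {U : X.Opens} (hU : IsAffineOpen U) (e : U ≤ f ⁻¹ᵁ V)
    (P : PrimeSpectrum Γ(X, U)) :
    hV.fromSpec (PrimeSpectrum.comap (f.appLE V U e).hom P) = f (hU.fromSpec P) :=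
  congrArg (fun g => g P) (IsAffineOpen.SpecMap_appLE_fromSpec f hV hU e)

theorem exists_finite_cover [QuasiCompact f] {V : Y.Opens} (hV : IsAffineOpen V) :
    ∃ t : Finset X.affineOpens, (∀ U ∈ t, (U : X.Opens) ≤ f ⁻¹ᵁ V) ∧
      ∀ x, f x ∈ V → ∃ U ∈ t, x ∈ (U : X.Opens) := by
  classical
  have hc : IsCompact ((f ⁻¹ᵁ V : X.Opens) : Set X) :=
    f.isCompact_preimage hV.isCompact
  obtain ⟨t, ht⟩ := hc.elim_finite_subcover (ι := {U : X.affineOpens // (U : X.Opens) ≤ f ⁻¹ᵁ V})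
    (fun U => ((U.1 : X.Opens) : Set X)) (fun U => (U.1 : X.Opens).isOpen) fun x hx => by
      obtain ⟨W, hW, hxW, hle⟩ := X.isBasis_affineOpens.exists_subset_of_mem_open hx (f ⁻¹ᵁ V).isOpen
      obtain ⟨U, hU, rfl⟩ := hW
      exact Set.mem_iUnion.mpr ⟨⟨⟨U, hU⟩, hle⟩, hxW⟩
  refine ⟨t.image Subtype.val, fun U hU => ?_, fun x hx => ?_⟩
  · obtain ⟨U, -, rfl⟩ := Finset.mem_image.mp hU
    exact U.2
  · obtain ⟨U, hU, hxU⟩ := Set.mem_iUnion₂.mp (ht hx)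
    exact ⟨U.1, Finset.mem_image_of_mem _ hU, hxU⟩

theorem exists_base_chart (Y : Scheme.{u}) [IrreducibleSpace Y] :
    ∃ (V : Y.Opens) (hV : IsAffineOpen V), (nilradical Γ(Y, V)).IsPrime ∧ genericPoint Y ∈ V ∧
      ∀ p : PrimeSpectrum Γ(Y, V), hV.fromSpec p = genericPoint Y ↔ p.asIdeal = nilradical Γ(Y, V) := by
  obtain ⟨_, ⟨V, hV, rfl⟩, hηV, -⟩ :=
    Y.isBasis_affineOpens.exists_subset_of_mem_open (Set.mem_univ (genericPoint Y)) isOpen_univ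
  let p₀ := hV.primeIdealOf ⟨genericPoint Y, hηV⟩
  have h₀ : hV.fromSpec p₀ = genericPoint Y := hV.fromSpec_primeIdealOf _
  have hle : ∀ p : PrimeSpectrum Γ(Y, V), p₀ ≤ p := fun p =>
    (PrimeSpectrum.le_iff_specializes _ _).mpr
      ((hV.fromSpec.isOpenEmbedding.isInducing.specializes_iff).mp
        (h₀.symm ▸ genericPoint_specializes (hV.fromSpec p)))
  have hnil : p₀.asIdeal = nilradical Γ(Y, V) := by
    refine le_antisymm ?_ (nilradical_le_prime _)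
    rw [nilradical_eq_sInf]
    exact le_sInf fun p hp => hle ⟨p, hp⟩
  refine ⟨V, hV, hnil ▸ p₀.isPrime, hηV, fun p => ⟨fun h => ?_, fun h => ?_⟩⟩
  · rw [← hnil, hV.fromSpec.isOpenEmbedding.injective (h.trans h₀.symm)]
  · rw [show p = p₀ from PrimeSpectrum.ext (h.trans hnil.symm), h₀]

theorem mem_basicOpen {V : Y.Opens} (hV : IsAffineOpen V) (a : Γ(Y, V)) (p : PrimeSpectrum Γ(Y, V)) :
    hV.fromSpec p ∈ Y.basicOpen a ↔ a ∉ p.asIdeal := by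
  show p ∈ hV.fromSpec ⁻¹ᵁ Y.basicOpen a ↔ _
  rw [hV.fromSpec_preimage_basicOpen]
  rfl

/-- Over a nonempty open, every point is a specialisation of a point of the generic fibre. -/
theorem exists_generization [IrreducibleSpace Y] [LocallyOfFiniteType f] [QuasiCompact f] :
    ∃ V : Y.Opens, (V : Set Y).Nonempty ∧ ∀ x, f x ∈ V → ∃ x', f x' = genericPoint Y ∧ x' ⤳ x := by
  classical
  obtain ⟨V, hV, hp, hηV, hη⟩ := exists_base_chart Y
  obtain ⟨t, ht, hcov⟩ := exists_finite_cover f hV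
  have key : ∀ U : t, ∃ a : Γ(Y, V), a ∉ nilradical Γ(Y, V) ∧ ∀ P : PrimeSpectrum Γ(X, U.1.1),
      (f.appLE V U.1.1 (ht _ U.2)).hom a ∉ P.asIdeal → ∃ Q : PrimeSpectrum Γ(X, U.1.1), Q ≤ P ∧
        (PrimeSpectrum.comap (f.appLE V U.1.1 (ht _ U.2)).hom Q).asIdeal = nilradical Γ(Y, V) := by
    intro U
    algebraize [(f.appLE V U.1.1 (ht _ U.2)).hom]
    haveI : Algebra.FiniteType Γ(Y, V) Γ(X, U.1.1) := f.finiteType_appLE hV U.1.2 (ht _ U.2)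
    obtain ⟨a, ha, H⟩ := exists_over_nilradical Γ(Y, V) Γ(X, U.1.1)
    refine ⟨a, ha, fun P hP => ?_⟩
    obtain ⟨Q, hQ, hle, hQ0⟩ := H P.asIdeal P.isPrime hP
    exact ⟨⟨Q, hQ⟩, hle, hQ0⟩
  choose a ha H using key
  refine ⟨Y.basicOpen (∏ U, a U), ⟨genericPoint Y, ?_⟩, fun x hx => ?_⟩
  · obtain ⟨p₀, hp₀⟩ : ∃ p, hV.fromSpec p = genericPoint Y := ⟨_, hV.fromSpec_primeIdealOf ⟨_, hηV⟩⟩
    rw [SetLike.mem_coe, ← hp₀, mem_basicOpen, (hη _).mp hp₀]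
    intro h
    obtain ⟨U, -, hU⟩ := hp.prod_mem_iff.mp h
    exact ha U hU
  · obtain ⟨U, hU, hxU⟩ := hcov x (Y.basicOpen_le _ hx)
    let P := U.2.primeIdealOf ⟨x, hxU⟩
    have hP : U.2.fromSpec P = x := U.2.fromSpec_primeIdealOf _
    rw [← hP, ← fromSpec_comap f hV U.2 (ht _ hU), mem_basicOpen] at hx
    obtain ⟨Q, hle, hQ⟩ := H ⟨U, hU⟩ P fun h =>
      hx ((PrimeSpectrum.comap (f.appLE V U.1 (ht _ hU)).hom P).isPrime.prod_mem_iff.mpr ⟨_, Finset.mem_univ _, h⟩)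
    refine ⟨U.2.fromSpec Q, ?_, hP ▸ ((PrimeSpectrum.le_iff_specializes _ _).mp hle).map U.2.fromSpec.continuous⟩
    rw [← fromSpec_comap f hV U.2 (ht _ hU), hη, hQ]

theorem isNowhereDense_fiber_iff {Z : Set X} (hZ : IsClosed Z) (y : Y) :
    IsNowhereDense ((f.fiberι y) ⁻¹' Z) ↔
      ∀ x ∈ Z, f x = y → ∀ W : Set X, IsOpen W → x ∈ W → ∃ x' ∈ W, f x' = y ∧ x' ∉ Z := by
  rw [(hZ.preimage (f.fiberι y).continuous).isNowhereDense_iff]
  constructor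
  · intro h x hxZ hxy W hW hxW
    by_contra hcon
    push Not at hcon
    let w := (f.fiberHomeo y).symm ⟨x, hxy⟩
    have hw : f.fiberι y w = x := f.fiberι_fiberHomeo_symm y _
    have : w ∈ interior ((f.fiberι y) ⁻¹' Z) :=
      mem_interior.mpr ⟨(f.fiberι y) ⁻¹' W, fun v hv => hcon _ hv
        ((f.range_fiberι y).le ⟨v, rfl⟩), hW.preimage (f.fiberι y).continuous, show f.fiberι y w ∈ W from hw ▸ hxW⟩
    rw [h] at this
    exact this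
  · intro h
    refine Set.eq_empty_of_forall_notMem fun w hw => ?_
    obtain ⟨O, hOZ, hO, hwO⟩ := mem_interior.mp hw
    obtain ⟨W, hW, rfl⟩ := (f.fiberι y).isEmbedding.isOpen_iff.mp hO
    obtain ⟨x', hx'W, hx'y, hx'Z⟩ := h _ (hOZ hwO) ((f.range_fiberι y).le ⟨w, rfl⟩) W hW hwO
    obtain ⟨w', rfl⟩ := (f.range_fiberι y).ge hx'y
    exact hx'Z (hOZ hx'W)

/-- A closed subset nowhere dense in the generic fibre is so in every fibre over a nonempty open. -/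
theorem exists_nowhereDense [IrreducibleSpace Y] [LocallyOfFiniteType f] [QuasiCompact f] {Z : Set X}
    (hZ : IsClosed Z) (h : IsNowhereDense ((f.fiberι (genericPoint Y)) ⁻¹' Z)) :
    ∃ V : Y.Opens, (V : Set Y).Nonempty ∧ ∀ y ∈ V, IsNowhereDense ((f.fiberι y) ⁻¹' Z) := by
  classical
  rw [isNowhereDense_fiber_iff f hZ] at h
  obtain ⟨V, hV, hp, hηV, hη⟩ := exists_base_chart Y
  obtain ⟨t, ht, hcov⟩ := exists_finite_cover f hV
  have key : ∀ U : t, ∃ a : Γ(Y, V), a ∉ nilradical Γ(Y, V) ∧ ∀ P : PrimeSpectrum Γ(X, U.1.1),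
      (f.appLE V U.1.1 (ht _ U.2)).hom a ∉ P.asIdeal → ∀ c ∉ P.asIdeal, ∃ Q : PrimeSpectrum Γ(X, U.1.1),
        PrimeSpectrum.comap (f.appLE V U.1.1 (ht _ U.2)).hom Q =
          PrimeSpectrum.comap (f.appLE V U.1.1 (ht _ U.2)).hom P ∧ c ∉ Q.asIdeal ∧ U.1.2.fromSpec Q ∉ Z := by
    intro U
    have hUa : IsAffineOpen U.1.1 := U.1.2
    algebraize [(f.appLE V U.1.1 (ht _ U.2)).hom]
    haveI : Algebra.FiniteType Γ(Y, V) Γ(X, U.1.1) := f.finiteType_appLE hV hUa (ht _ U.2)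
    obtain ⟨J, hJ⟩ := (PrimeSpectrum.isClosed_iff_zeroLocus_ideal _).mp (hZ.preimage hUa.fromSpec.continuous)
    have hJ' : ∀ Q : PrimeSpectrum Γ(X, U.1.1), hUa.fromSpec Q ∈ Z ↔ J ≤ Q.asIdeal := fun Q =>
      (Set.ext_iff.mp hJ Q).trans Iff.rfl
    have hND : ND (nilradical Γ(Y, V)) J := by
      intro P hP hP0 c hc
      by_cases hPZ : hUa.fromSpec ⟨P, hP⟩ ∈ Z
      swap
      · exact ⟨P, hP, hP0, hc, fun h => hPZ ((hJ' ⟨P, hP⟩).mpr h)⟩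
      obtain ⟨x', hx'W, hx'y, hx'Z⟩ := h _ hPZ
        (by rw [← fromSpec_comap f hV hUa (ht _ U.2), hη]; exact hP0)
        (X.basicOpen c) (X.basicOpen c).isOpen ((mem_basicOpen hUa c ⟨P, hP⟩).mpr hc)
      let Q := hUa.primeIdealOf ⟨x', X.basicOpen_le c hx'W⟩
      have hQ : hUa.fromSpec Q = x' := hUa.fromSpec_primeIdealOf _
      refine ⟨Q.asIdeal, Q.isPrime, ?_, (mem_basicOpen hUa c Q).mp (hQ.symm ▸ hx'W),
        fun h => hx'Z (hQ ▸ (hJ' Q).mpr h)⟩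
      rw [← hQ, ← fromSpec_comap f hV hUa (ht _ U.2), hη] at hx'y
      exact hx'y
    obtain ⟨a, ha, H⟩ := exists_nd_nilradical Γ(Y, V) Γ(X, U.1.1) J hND
    refine ⟨a, ha, fun P hP c hc => ?_⟩
    obtain ⟨Q, hQ, hQp, hcQ, hJQ⟩ := H _ inferInstance hP P.asIdeal P.isPrime rfl c hc
    exact ⟨⟨Q, hQ⟩, PrimeSpectrum.ext hQp, hcQ, fun h => hJQ ((hJ' _).mp h)⟩
  choose a ha H using key
  refine ⟨Y.basicOpen (∏ U, a U), ⟨genericPoint Y, ?_⟩, fun y hy => ?_⟩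
  · obtain ⟨p₀, hp₀⟩ : ∃ p, hV.fromSpec p = genericPoint Y := ⟨_, hV.fromSpec_primeIdealOf ⟨_, hηV⟩⟩
    rw [SetLike.mem_coe, ← hp₀, mem_basicOpen, (hη _).mp hp₀]
    intro h
    obtain ⟨U, -, hU⟩ := hp.prod_mem_iff.mp h
    exact ha U hU
  · rw [isNowhereDense_fiber_iff f hZ]
    intro x hxZ hxy W hW hxW
    obtain ⟨⟨U, hUa⟩, hU, hxU⟩ := hcov x (hxy ▸ Y.basicOpen_le _ hy)
    let P := hUa.primeIdealOf ⟨x, hxU⟩
    have hP : hUa.fromSpec P = x := hUa.fromSpec_primeIdealOf _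
    rw [← hxy, ← hP, ← fromSpec_comap f hV hUa (ht _ hU), mem_basicOpen] at hy
    obtain ⟨_, ⟨c, rfl⟩, hcP, hcW⟩ := PrimeSpectrum.isTopologicalBasis_basic_opens.exists_subset_of_mem_open
      (show hUa.fromSpec P ∈ W by rw [hP]; exact hxW) (hW.preimage hUa.fromSpec.continuous)
    obtain ⟨Q, hQP, hcQ, hQZ⟩ := H ⟨⟨U, hUa⟩, hU⟩ P (fun h =>
      hy ((PrimeSpectrum.comap (f.appLE V U (ht _ hU)).hom P).isPrime.prod_mem_iff.mpr ⟨_, Finset.mem_univ _, h⟩))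
      c hcP
    refine ⟨hUa.fromSpec Q, hcW hcQ, ?_, hQZ⟩
    rw [← hxy, ← hP, ← fromSpec_comap f hV hUa (ht _ hU), ← fromSpec_comap f hV hUa (ht _ hU), hQP]

end Groth.Agent.FibreND
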